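import Mathlib
import Cfsg.Agent.H995.CopTwo
import Cfsg.Agent.TypeM.FactsMcL
import Cfsg.Agent.TypeM.FactsAut
import Cfsg.Agent.NotCT.Orders

/-!
# `McL`: no coprime class sizes (helper461, for S4158)

* `central_five` : elements of order 5 of a group of order 45 are central;
* `noCop_mcl`.
-/

set_option autoImplicit false

namespace Cfsg.Agent.H461.Cop

open Subgroup Equiv Cfsg.Agent.H530.Cop Cfsg.Agent.H995.CopTwo Cfsg.Agent.SporRec.TwoAn Cfsg.Agent.TypeM.Two

/-- an element normalising `⟨d⟩`, `d ^ 5 = 1`, of odd order dividing 45 centralises `d` -/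
theorem comm_of_conj {D : Type*} [Group D] {d g : D} (hd : orderOf d = 5) (hg : g ^ 45 = 1)
    (h : g * d * g⁻¹ ∈ zpowers d) : g * d = d * g := by
  obtain ⟨k, hk⟩ := mem_zpowers_iff.1 h
  have h1 : ∀ n : ℕ, g ^ n * d * (g ^ n)⁻¹ = d ^ (k ^ n) := by
    intro n
    induction n with
    | zero => simp
    | succ n ih =>
      have : g ^ (n + 1) * d * (g ^ (n + 1))⁻¹ = g * (g ^ n * d * (g ^ n)⁻¹) * g⁻¹ := by
        rw [pow_succ']; group
      rw [this, ih, ← MulAut.conj_apply, map_zpow, MulAut.conj_apply, ← hk, ← zpow_mul, ← pow_succ']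
  have h2 := h1 45
  rw [hg, one_mul, inv_one, mul_one] at h2
  have h3 : d ^ (k ^ 45 - 1) = 1 := by
    rw [zpow_sub, ← h2, zpow_one, mul_inv_cancel]
  have h4 : (5 : ℤ) ∣ k ^ 45 - 1 := by
    have := orderOf_dvd_iff_zpow_eq_one.2 h3
    rwa [hd] at this
  have h5 : (5 : ℤ) ∣ k - 1 := by
    have h6 : ((k : ZMod 5)) ^ 45 - 1 = 0 := by
      have := (ZMod.intCast_zmod_eq_zero_iff_dvd (k ^ 45 - 1) 5).2 (by exact_mod_cast h4)
      push_cast at this
      exact this
    have h7 : ∀ z : ZMod 5, z ^ 45 - 1 = 0 → z - 1 = 0 := by decide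
    have h8 := h7 _ h6
    have := (ZMod.intCast_zmod_eq_zero_iff_dvd (k - 1) 5).1 (by push_cast; exact h8)
    exact_mod_cast this
  have h6 : d ^ (k - 1) = 1 := orderOf_dvd_iff_zpow_eq_one.1 (by rw [hd]; exact h5)
  have h7 : d ^ k = d := by
    rw [zpow_sub, zpow_one, mul_inv_eq_one] at h6
    exact h6
  rw [← mul_inv_eq_iff_eq_mul, ← hk, h7]

theorem central_five {D : Type*} [Group D] (hD : Nat.card D = 45) :
    ∃ d : D, orderOf d = 5 ∧ ∀ g : D, g * d = d * g := by
  have hfin : Finite D := Nat.finite_of_card_ne_zero (by rw [hD]; norm_num)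
  have h5 : Fact (Nat.Prime 5) := ⟨by norm_num⟩
  let P : Sylow 5 D := default
  have hPc : Nat.card P = 5 := by
    obtain ⟨n, hn⟩ := IsPGroup.iff_card.1 P.isPGroup'
    have h1 : 5 ∣ Nat.card P := P.dvd_card_of_dvd_card (by rw [hD]; norm_num)
    have h2 : Nat.card P ∣ 45 := by rw [← hD]; exact card_subgroup_dvd_card (P : Subgroup D)
    rcases n with _ | _ | n
    · have h3 : Nat.card P = 5 ^ 0 := hn
      rw [h3] at h1
      omega
    · exact hn
    · exfalso
      have h3 : Nat.card P = 5 ^ (n + 1 + 1) := hn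
      rw [h3] at h2
      have : 25 ∣ 45 := (Dvd.intro_left (5 ^ n) (by ring)).trans h2
      omega
  have h9 : (P : Subgroup D).index = 9 := by
    have := card_mul_index (P : Subgroup D)
    rw [hD] at this
    have h' : Nat.card ↥(P : Subgroup D) = 5 := hPc
    rw [h'] at this
    omega
  have h1 : Nat.card (Sylow 5 D) = 1 := by
    have ha := card_sylow_modEq_one 5 D
    have hb := P.card_dvd_index
    rw [h9] at hb
    have hc : Nat.card (Sylow 5 D) ≤ 9 := Nat.le_of_dvd (by norm_num) hb
    unfold Nat.ModEq at ha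
    interval_cases Nat.card (Sylow 5 D) <;> omega
  have hn : (P : Subgroup D).Normal := by
    have : Subsingleton (Sylow 5 D) := (Nat.card_eq_one_iff_unique.1 h1).1
    exact P.normal_of_subsingleton
  obtain ⟨d, hd⟩ := exists_prime_orderOf_dvd_card' (G := P) 5 (by rw [hPc])
  have hd' : orderOf (d : D) = 5 := by rw [orderOf_coe]; exact hd
  refine ⟨d, hd', fun g => comm_of_conj hd' ?_ ?_⟩
  · rw [← hD]; exact pow_card_eq_one'
  · have hz : zpowers (d : D) = P := by
      refine eq_of_le_of_card_ge (zpowers_le.2 d.2) ?_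
      rw [Nat.card_zpowers, hd']
      exact hPc.le
    rw [hz]
    exact hn.conj_mem _ d.2 g

theorem no45 {D : Type*} [Group D] (hD : Nat.card D = 45) (f : D →* Perm (Fin 8)) (hf : Function.Injective f) :
    False := by
  obtain ⟨d, hd, hc⟩ := central_five hD
  have h1 : orderOf (f d) = 5 := by rw [orderOf_injective f hf, hd]
  -- the image of `D` lies in the centralizer of the 5-cycle `f d`
  have h2 : f.range ≤ centralizer ({f d} : Set (Perm (Fin 8))) := by
    rintro _ ⟨g, rfl⟩
    rw [mem_cent, ← map_mul, hc, map_mul]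
  have h3 : Nat.card f.range = 45 := by rw [← hD]; exact (Nat.card_congr (MonoidHom.ofInjective hf).toEquiv).symm
  have h4 : 45 ∣ Nat.card (centralizer ({f d} : Set (Perm (Fin 8)))) := by
    rw [← h3]; exact card_dvd_of_le h2
  have h5 : (f d).cycleType = {5} := by
    have h6 : (f d).IsCycle := Perm.isCycle_of_prime_order' (by rw [h1]; norm_num) (by rw [h1, Fintype.card_fin]; norm_num)
    rw [h6.cycleType, ← h6.orderOf, h1]
  rw [Perm.nat_card_centralizer, h5] at h4
  revert h4
  decide

/-! ### The regular elementary abelian subgroup of `A_8` -/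

/-- the generators of a regular elementary abelian subgroup -/
def pa : Perm (Fin 8) := ⟨![1, 0, 3, 2, 5, 4, 7, 6], ![1, 0, 3, 2, 5, 4, 7, 6], by decide, by decide⟩
/-- the generators of a regular elementary abelian subgroup -/
def pb : Perm (Fin 8) := ⟨![2, 3, 0, 1, 6, 7, 4, 5], ![2, 3, 0, 1, 6, 7, 4, 5], by decide, by decide⟩
/-- the generators of a regular elementary abelian subgroup -/
def pc : Perm (Fin 8) := ⟨![4, 5, 6, 7, 0, 1, 2, 3], ![4, 5, 6, 7, 0, 1, 2, 3], by decide, by decide⟩

/-- the element of the regular subgroup mapping `0` to `i` -/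
def tb (i k : Fin 8) : Fin 8 :=
  (if Nat.testBit i 0 then pa else 1) ((if Nat.testBit i 1 then pb else 1) ((if Nat.testBit i 2 then pc else 1) k))

theorem tb_tb : ∀ i k : Fin 8, tb (tb i k) k = i := by decide

theorem sq_of_comm {σ : Perm (Fin 8)} (ha : σ * pa = pa * σ) (hb : σ * pb = pb * σ) (hc : σ * pc = pc * σ) :
    σ * σ = 1 := by
  have ea : ∀ i, σ (pa i) = pa (σ i) := fun i => DFunLike.congr_fun ha i
  have eb : ∀ i, σ (pb i) = pb (σ i) := fun i => DFunLike.congr_fun hb i
  have ec : ∀ i, σ (pc i) = pc (σ i) := fun i => DFunLike.congr_fun hc i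
  have key : ∀ i, σ i = tb i (σ 0) := by
    intro i
    have h1 : i = tb i 0 := by revert i; decide
    conv_lhs => rw [h1]
    unfold tb
    split_ifs <;> simp only [ea, eb, ec, Perm.one_apply]
  ext i
  rw [Perm.mul_apply, key (σ i), key i, tb_tb]
  rfl

/-- the centralizer of the regular subgroup -/
def E8 : Subgroup (Perm (Fin 8)) := centralizer ({pa, pb, pc} : Set (Perm (Fin 8)))

theorem mem_E8 {σ : Perm (Fin 8)} : σ ∈ E8 ↔ σ * pa = pa * σ ∧ σ * pb = pb * σ ∧ σ * pc = pc * σ := by
  unfold E8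
  rw [mem_centralizer_iff]
  constructor
  · intro h
    exact ⟨(h pa (by simp)).symm, (h pb (by simp)).symm, (h pc (by simp)).symm⟩
  · rintro ⟨h1, h2, h3⟩ g hg
    rcases hg with rfl | rfl | rfl
    · exact h1.symm
    · exact h2.symm
    · exact h3.symm

theorem pa_mem : pa ∈ E8 := mem_E8.2 (by decide)
theorem pb_mem : pb ∈ E8 := mem_E8.2 (by decide)
theorem pc_mem : pc ∈ E8 := mem_E8.2 (by decide)

theorem noCop_mcl {G : Type*} [Group G] [Finite G] (h : Cfsg.Spor.IsoMcL G) : NoCop G := by
  obtain ⟨-, hs, hcard, ⟨L⟩⟩ := TypeM.FactsMcL.facts h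
  have hcc : ∀ L' : MT 8 G, Nat.card (centralizer ({L'.t} : Set G)) = 40320 := fun L' => by
    rw [TypeM.FactsAut.card_centralizer L' (by norm_num)]
    decide
  have hna : ¬ IsMulCommutative G := by
    intro hc
    have h1 : centralizer ({L.t} : Set G) = ⊤ := by
      rw [eq_top_iff]
      intro g _
      rw [mem_cent]
      exact hc.is_comm.comm g L.t
    have h2 := hcc L
    rw [h1, card_top, hcard] at h2
    omega
  let C := centralizer ({L.t} : Set G)
  refine noCop_of_bad hna Nat.prime_two ((E8.comap L.K.π).map C.subtype) ?_ ?_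
  · -- a 2-group
    rintro ⟨_, c, hc, rfl⟩
    have h1 : L.K.π c ∈ E8 := hc
    obtain ⟨e1, e2, e3⟩ := mem_E8.1 h1
    have h2 : L.K.π (c * c) = 1 := by rw [map_mul]; exact sq_of_comm e1 e2 e3
    refine ⟨2, Subtype.ext ?_⟩
    have h3 : c ^ 4 = 1 := by
      have h0 : c ^ 4 = (c * c) * (c * c) := by rw [← pow_two, ← pow_two, ← pow_mul]
      rcases (L.K.ker _).1 h2 with h4 | h4
      · rw [h0, h4, one_mul]
      · rw [h0, h4, L.K.z_mul_z]
    have := congrArg C.subtype h3
    rw [map_pow, map_one] at this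
    exact this
  · intro x y hb hx2 hxU
    -- `x` is in the centralizer of `t`
    have htU : L.t ∈ (E8.comap L.K.π).map C.subtype := by
      refine ⟨L.K.z, ?_, L.hz⟩
      have : L.K.π L.K.z ∈ E8 := by rw [L.K.π_z]; exact one_mem _
      exact this
    have hxt : x * L.t = L.t * x := (hxU _ htU).symm
    let x' : C := ⟨x, mem_cent.2 hxt⟩
    have hcomm : ∀ σ : Perm (Fin 8), σ ∈ E8 → σ ∈ alternatingGroup (Fin 8) → L.K.π x' * σ = σ * L.K.π x' := by
      intro σ hσ hσA
      obtain ⟨g, rfl⟩ := L.K.exists_lift hσA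
      have h1 := hxU g ⟨g, hσ, rfl⟩
      have h2 : g * x' = x' * g := Subtype.ext h1
      rw [← map_mul, ← h2, map_mul]
    have h1 : L.K.π x' * L.K.π x' = 1 :=
      sq_of_comm (hcomm pa pa_mem (Perm.mem_alternatingGroup.2 (by decide +kernel)))
        (hcomm pb pb_mem (Perm.mem_alternatingGroup.2 (by decide +kernel)))
        (hcomm pc pc_mem (Perm.mem_alternatingGroup.2 (by decide +kernel)))
    have h2 : x' ^ 4 = 1 := by
      have h0 : x' ^ 4 = (x' * x') * (x' * x') := by rw [← pow_two, ← pow_two, ← pow_mul]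
      rw [← map_mul] at h1
      rcases (L.K.ker _).1 h1 with h4 | h4
      · rw [h0, h4, one_mul]
      · rw [h0, h4, L.K.z_mul_z]
    have h3 : x ^ 4 = 1 := congrArg Subtype.val h2
    have h4 : orderOf x = 2 := by
      have h5 : orderOf x ∣ 2 ^ 2 := orderOf_dvd_of_pow_eq_one (by norm_num; exact h3)
      exact (Nat.prime_dvd_prime_iff_eq hb.hx Nat.prime_two).1 (hb.hx.dvd_of_dvd_pow h5)
    obtain ⟨hx1, hx3⟩ := MT.sq_of_orderOf h4
    obtain ⟨L', rfl⟩ := L.exists_rebase hx1 hx3
    have hodd : ¬ 2 ∣ Nat.card (centralizer ({y} : Set G)) := by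
      refine hb.odd hna fun t ht => ?_
      obtain ⟨ht1, ht2⟩ := MT.sq_of_orderOf ht
      obtain ⟨g, hg⟩ := L'.one t ht1 ht2
      exact isConj_iff.2 ⟨g, hg⟩
    have hcx := hcc L'
    have hcix : ci L'.t = 22275 := by
      have := ci_mul_card L'.t
      rw [hcx, hcard] at this
      omega
    have hciy := ci_mul_card y
    rw [hcard] at hciy
    -- the class size of `y` is `896`
    have h128 : 128 ∣ ci y := by
      have h5 : 128 ∣ ci y * Nat.card (centralizer ({y} : Set G)) := by rw [hciy]; norm_num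
      refine Nat.Coprime.dvd_of_dvd_mul_right ?_ h5
      exact Nat.Coprime.pow_left 7 ((Nat.Prime.coprime_iff_not_dvd Nat.prime_two).2 hodd)
    have hcop : (ci y).Coprime 22275 := by rw [← hcix]; exact hb.cop.symm
    have h7 : 7 ∣ ci y := by
      obtain ⟨r, hr, hrd, hr2⟩ := hb.ne_prime_pow hna Nat.prime_two
      have h5 : r ∣ 898128000 := by rw [← hciy]; exact dvd_mul_of_dvd_left hrd _
      have h6 : ¬ r ∣ 22275 := fun h6 => by
        have := Nat.dvd_gcd hrd h6
        rw [hcop] at this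
        exact hr.one_lt.ne' (Nat.dvd_one.1 this)
      have h7 : r ∣ (2 * 7 * 22275) ^ 7 := h5.trans (by norm_num)
      have h8 := hr.dvd_of_dvd_pow h7
      rcases hr.dvd_mul.1 h8 with h9 | h9
      · rcases hr.dvd_mul.1 h9 with h10 | h10
        · exact absurd ((Nat.prime_dvd_prime_iff_eq hr Nat.prime_two).1 h10) hr2
        · rwa [(Nat.prime_dvd_prime_iff_eq hr (by norm_num)).1 h10] at hrd
      · exact absurd h9 h6
    have h896 : 896 ∣ ci y := Nat.Coprime.mul_dvd_of_dvd_of_dvd (by norm_num) h128 h7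
    have hD := hb.card_inf
    rw [hcx] at hD
    have hD1 : ci y ∣ 40320 := Dvd.intro_left _ hD
    have hcy : ci y = 896 := by
      obtain ⟨m, hm⟩ := h896
      rw [hm] at hD1 hcop
      have h5 : m ∣ 45 := by
        have : 896 * m ∣ 896 * 45 := hD1
        exact Nat.dvd_of_mul_dvd_mul_left (by norm_num) this
      have h6 : m.Coprime 22275 := hcop.coprime_mul_left
      have h7 : m.Coprime 45 := Nat.Coprime.coprime_dvd_right (by norm_num) h6
      have h8 : m = 1 := Nat.Coprime.eq_one_of_dvd h7 h5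
      rw [hm, h8]
    rw [hcy] at hD
    have hD45 : Nat.card ↥(centralizer ({L'.t} : Set G) ⊓ centralizer ({y} : Set G)) = 45 := by omega
    refine no45 hD45 (L'.K.π.comp (Subgroup.inclusion inf_le_left)) ?_
    rw [injective_iff_map_eq_one]
    intro d hd
    rw [MonoidHom.comp_apply] at hd
    rcases (L'.K.ker _).1 hd with h5 | h5
    · exact Subgroup.inclusion_injective inf_le_left (h5.trans (map_one _).symm)
    · exfalso
      have h6 : orderOf d = 2 := by
        rw [← orderOf_injective (Subgroup.inclusion inf_le_left)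
          (Subgroup.inclusion_injective (inf_le_left : centralizer ({L'.t} : Set G) ⊓ centralizer ({y} : Set G) ≤ _)) d,
          h5, L'.K.orderOf_z]
      have h7 := orderOf_dvd_natCard d
      rw [h6, hD45] at h7
      omega

end Cfsg.Agent.H461.Cop
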