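import Mathlib
import Cfsg.Agent.H995.CopTwo
import Cfsg.Agent.GTwoRows.ONFin
import Cfsg.Agent.BpSpor.HeThree
import Cfsg.Agent.SporadicA.FieldFour

/-!
# `O'N`: no coprime class sizes (helper461, for S4158)

* `no63` : `L₃(4)` has no subgroup of order 63;
* `noCop_on`.
-/

set_option autoImplicit false

namespace Cfsg.Agent.H461.Cop

open Subgroup Cfsg.Agent.H530.Cop Cfsg.Agent.H995.CopTwo
open Cfsg.Spor (ON)
open Cfsg.Agent.SporadicB.ON45Word (on)
open Cfsg.Agent.KFacts.ON.Cent (finite_ON)
open Cfsg.Agent.KFacts.ON.Words Cfsg.Agent.KFacts.ON.Struct Cfsg.Agent.KFacts.ON.Qs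
open Cfsg.Agent.GTwoRows.ONQuot

/-- a group of order 63 has an element of order 7 whose centralizer has order at least 9 -/
theorem big_seven {D : Type*} [Group D] (hD : Nat.card D = 63) :
    ∃ d : D, orderOf d = 7 ∧ 9 ≤ Nat.card (centralizer ({d} : Set D)) := by
  have hfin : Finite D := Nat.finite_of_card_ne_zero (by rw [hD]; norm_num)
  have h7 : Fact (Nat.Prime 7) := ⟨by norm_num⟩
  let P : Sylow 7 D := default
  have hPc : Nat.card P = 7 := by
    obtain ⟨n, hn⟩ := IsPGroup.iff_card.1 P.isPGroup'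
    have h1 : 7 ∣ Nat.card P := P.dvd_card_of_dvd_card (by rw [hD]; norm_num)
    have h2 : Nat.card P ∣ 63 := by rw [← hD]; exact card_subgroup_dvd_card (P : Subgroup D)
    rcases n with _ | _ | n
    · have h3 : Nat.card P = 7 ^ 0 := hn
      rw [h3] at h1
      omega
    · exact hn
    · exfalso
      have h3 : Nat.card P = 7 ^ (n + 1 + 1) := hn
      rw [h3] at h2
      have : 49 ∣ 63 := (Dvd.intro_left (7 ^ n) (by ring)).trans h2
      omega
  have h9 : (P : Subgroup D).index = 9 := by
    have := card_mul_index (P : Subgroup D)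
    rw [hD] at this
    have h' : Nat.card ↥(P : Subgroup D) = 7 := hPc
    rw [h'] at this
    omega
  have h1 : Nat.card (Sylow 7 D) = 1 := by
    have ha := card_sylow_modEq_one 7 D
    have hb := P.card_dvd_index
    rw [h9] at hb
    have hc : Nat.card (Sylow 7 D) ≤ 9 := Nat.le_of_dvd (by norm_num) hb
    unfold Nat.ModEq at ha
    interval_cases Nat.card (Sylow 7 D) <;> omega
  have hn : (P : Subgroup D).Normal := by
    have : Subsingleton (Sylow 7 D) := (Nat.card_eq_one_iff_unique.1 h1).1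
    exact P.normal_of_subsingleton
  obtain ⟨d, hd⟩ := exists_prime_orderOf_dvd_card' (G := P) 7 (by rw [hPc])
  have hd' : orderOf (d : D) = 7 := by rw [orderOf_coe]; exact hd
  refine ⟨d, hd', ?_⟩
  -- the index of the centralizer is at most 7
  have hidx : (centralizer ({(d : D)} : Set D)).index ≤ 7 := by
    have hfP : Finite P := inferInstance
    let f : D ⧸ centralizer ({(d : D)} : Set D) → P := fun a => Quotient.liftOn' a
      (fun g => ⟨g * d * g⁻¹, hn.conj_mem _ d.2 g⟩) (by
        intro a b hab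
        rw [QuotientGroup.leftRel_apply, mem_cent] at hab
        apply Subtype.ext
        change a * (d : D) * a⁻¹ = b * (d : D) * b⁻¹
        calc a * (d : D) * a⁻¹ = a * ((d : D) * (a⁻¹ * b)) * b⁻¹ := by group
          _ = a * (a⁻¹ * b * d) * b⁻¹ := by rw [hab]
          _ = b * (d : D) * b⁻¹ := by group)
    have hle : (centralizer ({(d : D)} : Set D)).index ≤ Nat.card P := by
      refine Nat.card_le_card_of_injective f ?_
      intro a b
      induction a using Quotient.inductionOn' with | h a =>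
      induction b using Quotient.inductionOn' with | h b =>
      intro hab
      have h2 : a * (d : D) * a⁻¹ = b * (d : D) * b⁻¹ := congrArg Subtype.val hab
      refine Quotient.sound' ?_
      rw [QuotientGroup.leftRel_apply, mem_cent]
      calc a⁻¹ * b * d = a⁻¹ * (b * (d : D) * b⁻¹) * b := by group
        _ = a⁻¹ * (a * (d : D) * a⁻¹) * b := by rw [h2]
        _ = _ := by group
    exact hle.trans hPc.le
  have hm := card_mul_index (centralizer ({(d : D)} : Set D))
  rw [hD] at hm
  by_contra hlt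
  have h2 : Nat.card (centralizer ({(d : D)} : Set D)) ≤ 8 := by omega
  have := Nat.mul_le_mul h2 hidx
  omega

theorem no63 {D : Type*} [Group D] (hD : Nat.card D = 63) (f : D →* ONType.Psl.PSL3) (hf : Function.Injective f) :
    False := by
  obtain ⟨d, hd, hc⟩ := big_seven hD
  have hfin : Finite ONType.Psl.PSL3 := CpAut.SmallP.PslFour.finite_PSL3
  have h1 : orderOf (f d) = 7 := by rw [orderOf_injective f hf, hd]
  have h2 := BpSpor.LFour.card_seven h1
  have h3 : (centralizer ({d} : Set D)).map f ≤ centralizer ({f d} : Set ONType.Psl.PSL3) := by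
    rintro _ ⟨g, hg, rfl⟩
    have hg' : g * d = d * g := mem_cent.1 hg
    rw [mem_cent, ← map_mul, hg', map_mul]
  have h4 : Nat.card ((centralizer ({d} : Set D)).map f) ≤ 7 := by
    rw [← h2]
    exact Nat.card_mono (Set.toFinite _) h3
  rw [Subgroup.card_map_of_injective hf] at h4
  omega

/-- the map of `J` to `L₃(4)` -/
theorem exists_phi : ∃ φ : J →* ONType.Psl.PSL3, φ.ker = center J := by
  obtain ⟨F, _, _, hF, ⟨e⟩⟩ := quot GTwoRows.h1170
  obtain ⟨f⟩ := SporadicA.FieldFour.nonempty_psl_equiv (n := Fin 3) F hF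
  refine ⟨((e.trans f.symm).toMonoidHom).comp (QuotientGroup.mk' (center J)), ?_⟩
  ext x
  rw [MonoidHom.mem_ker, MonoidHom.comp_apply]
  change (e.trans f.symm) (QuotientGroup.mk' (center J) x) = 1 ↔ _
  rw [map_eq_one_iff _ (e.trans f.symm).injective]
  exact QuotientGroup.eq_one_iff _

/-- an element of `J` of odd prime order does not commute with `a` -/
theorem two_of_comm {x : ON} (hx : (orderOf x).Prime) (hv : x * v = v * x) (ha : x * on .a = on .a * x) :
    orderOf x = 2 := by
  obtain ⟨φ, hφ⟩ := exists_phi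
  have hxJ : x ∈ J := mem_J.2 hv
  let x' : J := ⟨x, hxJ⟩
  let a' : J := ⟨on .a, aJ⟩
  have ha1 : φ a' ≠ 1 := by
    intro h
    have h1 : a' ∈ φ.ker := h
    rw [hφ] at h1
    exact qa_ne ((QuotientGroup.eq_one_iff _).2 h1)
  have ha2 : orderOf (φ a') = 2 := by
    refine orderOf_eq_prime ?_ ha1
    rw [← map_pow]
    have : a' ^ 2 = 1 := Subtype.ext (by rw [pow_two]; exact aa)
    rw [this, map_one]
  have h2 : IsPGroup 2 (centralizer ({φ a'} : Set ONType.Psl.PSL3)) :=
    BpSpor.LFour.two_group Cfsg.Agent.LThreeFour.datPSL ha2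
  have h3 : φ x' ∈ centralizer ({φ a'} : Set ONType.Psl.PSL3) := by
    rw [mem_cent, ← map_mul, ← map_mul]
    congr 1
    exact Subtype.ext ha
  obtain ⟨k, hk⟩ := h2 ⟨_, h3⟩
  have hk' : φ (x' ^ 2 ^ k) = 1 := by
    rw [map_pow]
    exact congrArg Subtype.val hk
  have h4 : x' ^ 2 ^ k ∈ center J := by rw [← hφ]; exact hk'
  have h5 : (x' ^ 2 ^ k) ^ 4 = 1 := by
    have : (⟨_, h4⟩ : center J) ^ Nat.card (center J) = 1 := pow_card_eq_one'
    rw [card_center] at this
    exact congrArg Subtype.val this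
  have h6 : x ^ 2 ^ (k + 2) = 1 := by
    have := congrArg Subtype.val h5
    rw [← pow_mul] at this
    rw [pow_add]
    exact this
  have h7 : orderOf x ∣ 2 ^ (k + 2) := orderOf_dvd_of_pow_eq_one h6
  exact (Nat.prime_dvd_prime_iff_eq hx Nat.prime_two).1 (hx.dvd_of_dvd_pow h7)

/-- a subgroup of `C(f)` of order 63 does not exist -/
theorem no63' (D : Subgroup ON) (hD : Nat.card D = 63) (hf : ∀ d ∈ D, d * on .f = on .f * d) : False := by
  have hfin := finite_ON
  obtain ⟨φ, hφ⟩ := exists_phi
  have hDJ : D ≤ J := by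
    intro d hd
    have h1 : d * d ∈ J := by
      have h2 := @Subgroup.mul_self_mem_of_index_two _ _ _ index_J ⟨d, KFacts.ON.Struct.mem_K0.2 (hf d hd)⟩
      exact h2
    have h3 : d ^ 63 = 1 := by
      have : (⟨d, hd⟩ : D) ^ Nat.card D = 1 := pow_card_eq_one'
      rw [hD] at this
      exact congrArg Subtype.val this
    have h4 : d = (d * d) ^ 32 := by
      rw [← pow_two, ← pow_mul]
      change d = d ^ (63 + 1)
      rw [pow_succ, h3, one_mul]
    rw [h4]
    exact pow_mem h1 32
  refine no63 hD (φ.comp (Subgroup.inclusion hDJ)) ?_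
  rw [injective_iff_map_eq_one]
  intro d hd
  rw [MonoidHom.comp_apply] at hd
  have h4 : Subgroup.inclusion hDJ d ∈ center J := by rw [← hφ]; exact hd
  have h5 : (Subgroup.inclusion hDJ d) ^ 4 = 1 := by
    have : (⟨_, h4⟩ : center J) ^ Nat.card (center J) = 1 := pow_card_eq_one'
    rw [card_center] at this
    exact congrArg Subtype.val this
  rw [← map_pow] at h5
  have h6 : d ^ 4 = 1 := Subgroup.inclusion_injective hDJ (h5.trans (map_one _).symm)
  have h7 : d ^ 63 = 1 := by rw [← hD]; exact pow_card_eq_one'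
  calc d = d ^ (4 * 16) := by
        change d = d ^ (63 + 1)
        rw [pow_succ, h7, one_mul]
    _ = 1 := by rw [pow_mul, h6, one_pow]

theorem noCop_self : NoCop ON := by
  have hfin := finite_ON
  have hs := KFacts.ON.OneClass.hs
  have hcard := KFacts.ON.OneClass.card_ON
  have hcf : Nat.card (centralizer ({on .f} : Set ON)) = 161280 := KFacts.ON.Cent.card_cent
  have hna : ¬ IsMulCommutative ON := by
    intro hc
    have h1 : centralizer ({on .f} : Set ON) = ⊤ := by
      rw [eq_top_iff]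
      intro g _
      rw [mem_cent]
      exact hc.is_comm.comm g (on .f)
    rw [h1, card_top, hcard] at hcf
    omega
  refine noCop_of_bad hna Nat.prime_two SJ (IsPGroup.of_card (n := 8) (by rw [card_SJ]; norm_num)) ?_
  intro x₀ y₀ hb₀ _ hxU
  have hx2 : orderOf x₀ = 2 := two_of_comm hb₀.hx (hxU _ vSJ).symm (hxU _ aSJ).symm
  have hinv : ∀ t : ON, orderOf t = 2 → IsConj t (on .f) := by
    intro t ht
    refine KFacts.ON.OneClass.one_class ?_ ?_
    · rw [← pow_two, ← ht, pow_orderOf_eq_one]
    · rintro rfl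
      rw [orderOf_one] at ht
      omega
  obtain ⟨g, hg⟩ := isConj_iff.1 (hinv x₀ hx2)
  -- rebase at `f`
  have hb : Bad (on .f) (g * y₀ * g⁻¹) := by
    rw [← hg]
    have ho : ∀ z : ON, orderOf (g * z * g⁻¹) = orderOf z := fun z =>
      orderOf_injective (MulAut.conj g).toMonoidHom (MulAut.conj g).injective z
    exact ⟨by rw [ho]; exact hb₀.hx, by rw [ho]; exact hb₀.hy, by rw [ho, ho]; exact hb₀.ne,
      by rw [ci_conj, ci_conj]; exact hb₀.cop⟩
  generalize g * y₀ * g⁻¹ = y at hb
  have hodd : ¬ 2 ∣ Nat.card (centralizer ({y} : Set ON)) := hb.odd hna fun t ht => (hinv t ht).symm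
  have hcix : ci (on .f) = 2857239 := by
    have := ci_mul_card (on .f : ON)
    rw [hcf, hcard] at this
    exact Nat.eq_of_mul_eq_mul_right (by norm_num : 0 < 161280) (this.trans (by norm_num))
  have hciy := ci_mul_card y
  rw [hcard] at hciy
  have h512 : 512 ∣ ci y := by
    have h5 : 512 ∣ ci y * Nat.card (centralizer ({y} : Set ON)) := by rw [hciy]; norm_num
    refine Nat.Coprime.dvd_of_dvd_mul_right ?_ h5
    exact Nat.Coprime.pow_left 9 ((Nat.Prime.coprime_iff_not_dvd Nat.prime_two).2 hodd)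
  have hcop : (ci y).Coprime 2857239 := by rw [← hcix]; exact hb.cop.symm
  have h5 : 5 ∣ ci y := by
    obtain ⟨r, hr, hrd, hr2⟩ := hb.ne_prime_pow hna Nat.prime_two
    have h5 : r ∣ 460815505920 := by rw [← hciy]; exact dvd_mul_of_dvd_left hrd _
    have h6 : ¬ r ∣ 2857239 := fun h6 => by
      have := Nat.dvd_gcd hrd h6
      rw [hcop] at this
      exact hr.one_lt.ne' (Nat.dvd_one.1 this)
    have h7 : r ∣ (2 * 5 * 2857239) ^ 9 := h5.trans (by norm_num)
    have h8 := hr.dvd_of_dvd_pow h7
    rcases hr.dvd_mul.1 h8 with h9 | h9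
    · rcases hr.dvd_mul.1 h9 with h10 | h10
      · exact absurd ((Nat.prime_dvd_prime_iff_eq hr Nat.prime_two).1 h10) hr2
      · rwa [(Nat.prime_dvd_prime_iff_eq hr (by norm_num)).1 h10] at hrd
    · exact absurd h9 h6
  have h2560 : 2560 ∣ ci y := Nat.Coprime.mul_dvd_of_dvd_of_dvd (by norm_num) h512 h5
  have hD := hb.card_inf
  rw [hcf] at hD
  have hD1 : ci y ∣ 161280 := Dvd.intro_left _ hD
  have hcy : ci y = 2560 := by
    obtain ⟨m, hm⟩ := h2560
    rw [hm] at hD1 hcop
    have h5 : m ∣ 63 := by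
      have : 2560 * m ∣ 2560 * 63 := hD1
      exact Nat.dvd_of_mul_dvd_mul_left (by norm_num) this
    have h6 : m.Coprime 2857239 := hcop.coprime_mul_left
    have h7 : m.Coprime (2857239 ^ 2) := Nat.Coprime.pow_right 2 h6
    have h8 : m.Coprime 63 := Nat.Coprime.coprime_dvd_right (by norm_num) h7
    have h9 : m = 1 := Nat.Coprime.eq_one_of_dvd h8 h5
    rw [hm, h9]
  rw [hcy] at hD
  have hD63 : Nat.card ↥(centralizer ({on .f} : Set ON) ⊓ centralizer ({y} : Set ON)) = 63 := by omega
  exact no63' _ hD63 fun d hd => mem_cent.1 hd.1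

/-- **`O'N` has no two non-trivial classes of coprime sizes.** -/
theorem noCop_on {G : Type*} [Group G] [Finite G] (h : Cfsg.Spor.IsoON G) : Cfsg.Agent.H530.Cop.NoCop G := by
  obtain ⟨e⟩ := h
  exact noCop_self.congr e.symm

end Cfsg.Agent.H461.Cop
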